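import Cfsg.Agent.Lib.InvChar.SporHNTrace

/-! Traces of the bases. -/

set_option autoImplicit false
set_option maxRecDepth 100000

namespace CfsgLib.InvChar.SporHN

open CfsgLib.InvChar.Coset

/-- hints for the bases -/
def baseTrace : List (List (ℕ × List ℕ × ℕ) × ℕ) := [([], 0), ([(0, [], 0)], 0), ([(0, [], 0), (12, [], 0)], 0), ([(0, [], 0), (7, [], 0)], 0), ([(0, [], 0), (10, [], 0)], 0), ([(0, [], 0), (12, [2], 0), (18, [], 0)], 0), ([(0, [], 0), (11, [], 0)], 0), ([(0, [], 0), (12, [2], 0), (18, [2], 0), (92, [], 0)], 0), ([(0, [], 0), (8, [1, 2, 0], 24400), (49, [2, 1, 2, 0, 2, 2, 2, 1, 2, 0, 2, 2, 1, 3, 0], 3686), (61, [], 62)], 2342)]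

end CfsgLib.InvChar.SporHN
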