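import Cfsg.Agent.Lib.InvChar.SporData.HN.T12600.Main

/-! Data for the bound on the order of ⟨x, y, z⟩. -/

set_option autoImplicit false
set_option maxRecDepth 100000

namespace CfsgLib.InvChar.SporHN

open CfsgLib.InvChar.Coset

/-- words for the 120 elements of ⟨y, b⟩ -/
def stabWords : List (List ℕ) := [[], [2], [3], [0, 2, 2, 2, 1], [2, 2], [2, 0, 2, 2, 2, 1], [3, 3], [3, 0, 2, 2, 2, 1], [0, 2, 2, 2, 1, 2], [0, 2, 2, 2, 1, 3], [2, 2, 2], [2, 2, 0, 2, 2, 2, 1], [2, 0, 2, 2, 2, 1, 2], [2, 0, 2, 2, 2, 1, 3], [3, 3, 0, 2, 2, 2, 1], [3, 0, 2, 2, 2, 1, 2], [3, 0, 2, 2, 2, 1, 3], [0, 2, 2, 2, 1, 2, 2], [0, 2, 2, 2, 1, 2, 0, 2, 2, 2, 1], [0, 2, 2, 2, 1,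 3, 3], [0, 2, 2, 2, 1, 3, 0, 2, 2, 2, 1], [2, 2, 2, 0, 2, 2, 2, 1], [2, 2, 0, 2, 2, 2, 1, 2], [2, 2, 0, 2, 2, 2, 1, 3], [2, 0, 2, 2, 2, 1, 2, 2], [2, 0, 2, 2, 2, 1, 2, 0, 2, 2, 2, 1], [2, 0, 2, 2, 2, 1, 3, 3], [2, 0, 2, 2, 2, 1, 3, 0, 2, 2, 2, 1], [3, 3, 0, 2, 2, 2, 1, 2], [3, 3, 0, 2, 2, 2, 1, 3], [3, 0, 2, 2, 2, 1, 2, 2], [3, 0, 2, 2, 2, 1, 2, 0, 2, 2, 2, 1], [3, 0, 2, 2, 2, 1, 3, 3], [3, 0, 2, 2, 2, 1, 3, 0, 2, 2, 2, 1], [0, 2, 2, 2, 1, 2, 2, 2], [0, 2, 2, 2, 1, 2, 2, 0, 2, 2, 2, 1], [0, 2, 2, 2, 1, 2, 0, 2, 2, 2, 1, 3], [0, 2, 2, 2, 1, 3, 3, 0, 2, 2, 2, 1], [0, 2, 2, 2, 1, 3, 0, 2, 2, 2, 1, 2], [2, 2, 2, 0, 2, 2, 2, 1, 2], [2, 2, 2, 0, 2, 2, 2, 1,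 3], [2, 2, 0, 2, 2, 2, 1, 2, 0, 2, 2, 2, 1], [2, 2, 0, 2, 2, 2, 1, 3, 3], [2, 2, 0, 2, 2, 2, 1, 3, 0, 2, 2, 2, 1], [2, 0, 2, 2, 2, 1, 2, 2, 2], [2, 0, 2, 2, 2, 1, 2, 0, 2, 2, 2, 1, 3], [2, 0, 2, 2, 2, 1, 3, 3, 0, 2, 2, 2, 1], [2, 0, 2, 2, 2, 1, 3, 0, 2, 2, 2, 1, 2], [3, 3, 0, 2, 2, 2, 1, 2, 2], [3, 3, 0, 2, 2, 2, 1, 2, 0, 2, 2, 2, 1], [3, 3, 0, 2, 2, 2, 1, 3, 0, 2, 2, 2, 1], [3, 0, 2, 2, 2, 1, 2, 2, 2], [3, 0, 2, 2, 2, 1, 2, 2, 0, 2, 2, 2, 1], [3, 0, 2, 2, 2, 1, 2, 0, 2, 2, 2, 1, 3], [3, 0, 2, 2, 2, 1, 3, 0, 2, 2, 2, 1, 2], [0, 2, 2, 2, 1, 2, 2, 2, 0, 2, 2, 2, 1], [0, 2, 2, 2, 1, 2, 2, 0, 2, 2, 2, 1, 3], [0, 2, 2, 2, 1, 2, 0, 2, 2, 2, 1, 3, 3], [0, 2,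 2, 2, 1, 2, 0, 2, 2, 2, 1, 3, 0, 2, 2, 2, 1], [0, 2, 2, 2, 1, 3, 3, 0, 2, 2, 2, 1, 2], [0, 2, 2, 2, 1, 3, 0, 2, 2, 2, 1, 2, 2], [0, 2, 2, 2, 1, 3, 0, 2, 2, 2, 1, 2, 0, 2, 2, 2, 1], [2, 2, 2, 0, 2, 2, 2, 1, 2, 0, 2, 2, 2, 1], [2, 2, 2, 0, 2, 2, 2, 1, 3, 0, 2, 2, 2, 1], [2, 2, 0, 2, 2, 2, 1, 3, 0, 2, 2, 2, 1, 2], [2, 0, 2, 2, 2, 1, 2, 2, 2, 0, 2, 2, 2, 1], [2, 0, 2, 2, 2, 1, 2, 0, 2, 2, 2, 1, 3, 3], [2, 0, 2, 2, 2, 1, 3, 3, 0, 2, 2, 2, 1, 2], [2, 0, 2, 2, 2, 1, 3, 0, 2, 2, 2, 1, 2, 2], [2, 0, 2, 2, 2, 1, 3, 0, 2, 2, 2, 1, 2, 0, 2, 2, 2, 1], [3, 3, 0, 2, 2, 2, 1, 2, 0, 2, 2, 2, 1, 3], [3, 0, 2, 2, 2, 1, 2, 2, 2, 0, 2, 2, 2, 1], [3, 0, 2, 2, 2, 1, 2, 0, 2,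 2, 2, 1, 3, 3], [3, 0, 2, 2, 2, 1, 2, 0, 2, 2, 2, 1, 3, 0, 2, 2, 2, 1], [3, 0, 2, 2, 2, 1, 3, 0, 2, 2, 2, 1, 2, 2], [0, 2, 2, 2, 1, 2, 2, 2, 0, 2, 2, 2, 1, 2], [0, 2, 2, 2, 1, 2, 2, 2, 0, 2, 2, 2, 1, 3], [0, 2, 2, 2, 1, 2, 2, 0, 2, 2, 2, 1, 3, 0, 2, 2, 2, 1], [0, 2, 2, 2, 1, 2, 0, 2, 2, 2, 1, 3, 3, 0, 2, 2, 2, 1], [0, 2, 2, 2, 1, 2, 0, 2, 2, 2, 1, 3, 0, 2, 2, 2, 1, 2], [0, 2, 2, 2, 1, 3, 3, 0, 2, 2, 2, 1, 2, 0, 2, 2, 2, 1], [0, 2, 2, 2, 1, 3, 0, 2, 2, 2, 1, 2, 2, 0, 2, 2, 2, 1], [0, 2, 2, 2, 1, 3, 0, 2, 2, 2, 1, 2, 0, 2, 2, 2, 1, 3], [2, 2, 0, 2, 2, 2, 1, 3, 0, 2, 2, 2, 1, 2, 2], [2, 0, 2, 2, 2, 1, 2, 2, 2, 0, 2, 2, 2, 1, 2], [2, 0, 2, 2, 2, 1, 2, 2,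 2, 0, 2, 2, 2, 1, 3], [2, 0, 2, 2, 2, 1, 2, 0, 2, 2, 2, 1, 3, 3, 0, 2, 2, 2, 1], [2, 0, 2, 2, 2, 1, 3, 3, 0, 2, 2, 2, 1, 2, 0, 2, 2, 2, 1], [2, 0, 2, 2, 2, 1, 3, 0, 2, 2, 2, 1, 2, 2, 0, 2, 2, 2, 1], [2, 0, 2, 2, 2, 1, 3, 0, 2, 2, 2, 1, 2, 0, 2, 2, 2, 1, 3], [3, 3, 0, 2, 2, 2, 1, 2, 0, 2, 2, 2, 1, 3, 3], [3, 0, 2, 2, 2, 1, 2, 2, 2, 0, 2, 2, 2, 1, 2], [3, 0, 2, 2, 2, 1, 2, 2, 2, 0, 2, 2, 2, 1, 3], [3, 0, 2, 2, 2, 1, 2, 0, 2, 2, 2, 1, 3, 3, 0, 2, 2, 2, 1], [3, 0, 2, 2, 2, 1, 2, 0, 2, 2, 2, 1, 3, 0, 2, 2, 2, 1, 2], [3, 0, 2, 2, 2, 1, 3, 0, 2, 2, 2, 1, 2, 2, 0, 2, 2, 2, 1], [0, 2, 2, 2, 1, 2, 2, 2, 0, 2, 2, 2, 1, 2, 0, 2, 2, 2, 1], [0, 2, 2, 2, 1, 2, 2, 2,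 0, 2, 2, 2, 1, 3, 0, 2, 2, 2, 1], [0, 2, 2, 2, 1, 2, 2, 0, 2, 2, 2, 1, 3, 0, 2, 2, 2, 1, 2], [0, 2, 2, 2, 1, 2, 0, 2, 2, 2, 1, 3, 3, 0, 2, 2, 2, 1, 2], [0, 2, 2, 2, 1, 2, 0, 2, 2, 2, 1, 3, 0, 2, 2, 2, 1, 2, 0, 2, 2, 2, 1], [0, 2, 2, 2, 1, 3, 3, 0, 2, 2, 2, 1, 2, 0, 2, 2, 2, 1, 3], [0, 2, 2, 2, 1, 3, 0, 2, 2, 2, 1, 2, 0, 2, 2, 2, 1, 3, 0, 2, 2, 2, 1], [2, 2, 0, 2, 2, 2, 1, 3, 0, 2, 2, 2, 1, 2, 2, 0, 2, 2, 2, 1], [2, 0, 2, 2, 2, 1, 2, 2, 2, 0, 2, 2, 2, 1, 3, 0, 2, 2, 2, 1], [2, 0, 2, 2, 2, 1, 2, 0, 2, 2, 2, 1, 3, 3, 0, 2, 2, 2, 1, 2], [2, 0, 2, 2, 2, 1, 3, 3, 0, 2, 2, 2, 1, 2, 0, 2, 2, 2, 1, 3], [2, 0, 2, 2, 2, 1, 3, 0, 2, 2, 2, 1, 2, 0, 2, 2, 2, 1, 3,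 0, 2, 2, 2, 1], [3, 3, 0, 2, 2, 2, 1, 2, 0, 2, 2, 2, 1, 3, 3, 0, 2, 2, 2, 1], [3, 0, 2, 2, 2, 1, 2, 0, 2, 2, 2, 1, 3, 3, 0, 2, 2, 2, 1, 2], [3, 0, 2, 2, 2, 1, 2, 0, 2, 2, 2, 1, 3, 0, 2, 2, 2, 1, 2, 0, 2, 2, 2, 1], [0, 2, 2, 2, 1, 2, 0, 2, 2, 2, 1, 3, 3, 0, 2, 2, 2, 1, 2, 0, 2, 2, 2, 1], [0, 2, 2, 2, 1, 2, 0, 2, 2, 2, 1, 3, 0, 2, 2, 2, 1, 2, 0, 2, 2, 2, 1, 3], [0, 2, 2, 2, 1, 3, 0, 2, 2, 2, 1, 2, 0, 2, 2, 2, 1, 3, 0, 2, 2, 2, 1, 2], [2, 0, 2, 2, 2, 1, 2, 0, 2, 2, 2, 1, 3, 3, 0, 2, 2, 2, 1, 2, 0, 2, 2, 2, 1], [2, 0, 2, 2, 2, 1, 3, 0, 2, 2, 2, 1, 2, 0, 2, 2, 2, 1, 3, 0, 2, 2, 2, 1, 2], [3, 0, 2, 2, 2, 1, 2, 0, 2, 2, 2, 1, 3, 3, 0, 2, 2, 2, 1, 2, 0, 2, 2,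 2, 1], [0, 2, 2, 2, 1, 2, 0, 2, 2, 2, 1, 3, 0, 2, 2, 2, 1, 2, 0, 2, 2, 2, 1, 3, 0, 2, 2, 2, 1], [0, 2, 2, 2, 1, 3, 0, 2, 2, 2, 1, 2, 0, 2, 2, 2, 1, 3, 0, 2, 2, 2, 1, 2, 0, 2, 2, 2, 1], [2, 0, 2, 2, 2, 1, 3, 0, 2, 2, 2, 1, 2, 0, 2, 2, 2, 1, 3, 0, 2, 2, 2, 1, 2, 0, 2, 2, 2, 1]]
/-- points telling them apart -/
def stabPts : List ℕ := [2202]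
/-- the element, in the letters x and v -/
def chainA : List ℕ := [0, 1, 1, 1, 1, 1, 1, 0, 1, 1, 0, 1, 0, 1, 1, 1, 1, 1]
/-- a step -/
def chainQ0 : List ℕ := [0, 1, 1, 1]
/-- a step -/
def chainQ1 : List ℕ := [1, 0, 1, 0, 1, 0, 1, 0, 1, 0, 1, 0, 1, 1, 1, 1, 0, 0]
/-- a step -/
def chainQ2 : List ℕ := [0, 1, 1, 1]
/-- the last step -/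
def chainF : List ℕ := [1, 1, 1, 1, 1, 1, 0, 1, 1, 0, 1, 0, 1, 1, 1, 1, 1, 0]

end CfsgLib.InvChar.SporHN
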