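import Cfsg.Agent.Lib.InvChar.SporHNTrace

/-! The saturation. -/

set_option autoImplicit false
set_option maxRecDepth 100000

namespace CfsgLib.InvChar.SporHN

open CfsgLib.InvChar.Coset

/-- representatives modulo the centraliser of z in the stabiliser -/
def czReps : List (List ℕ) := [[], [3], [1, 3, 0], [2], [1, 2, 0], [3, 3], [1, 3, 0, 3], [1, 3, 0, 1, 3, 0], [2, 2], [1, 2, 0, 1, 2, 0], [3, 3, 3], [1, 3, 0, 3, 3], [1, 2, 0, 3, 3], [3, 1, 3, 0, 1, 3, 0], [1, 3, 0, 1, 3, 0, 1, 3, 0], [1, 2, 0, 2, 2], [2, 1, 2, 0, 1, 2, 0], [1, 3, 0, 3, 3, 3], [1, 2, 0, 3, 3, 3], [3, 1, 3, 0, 3, 3], [1, 3, 0, 1, 3, 0, 3, 3], [2, 1, 3, 0, 3, 3], [3, 3, 1, 3, 0, 1, 3, 0], [1, 3, 0, 3, 1, 3, 0, 1, 3, 0], [1, 2, 0, 3, 1, 3, 0, 1, 3, 0], [3,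 1, 3, 0, 1, 3, 0, 1, 3, 0], [2, 1, 3, 0, 1, 3, 0, 1, 3, 0], [3, 1, 2, 0, 2, 2], [2, 1, 2, 0, 2, 2], [1, 3, 0, 2, 1, 2, 0, 1, 2, 0], [1, 2, 0, 2, 1, 2, 0, 1, 2, 0], [3, 1, 3, 0, 3, 3, 3], [2, 1, 3, 0, 3, 3, 3], [3, 1, 2, 0, 3, 3, 3], [2, 1, 2, 0, 3, 3, 3], [1, 2, 0, 2, 1, 3, 0, 3, 3], [3, 1, 2, 0, 3, 1, 3, 0, 1, 3, 0], [2, 1, 2, 0, 3, 1, 3, 0, 1, 3, 0], [1, 2, 0, 3, 1, 3, 0, 1, 3, 0, 1, 3, 0], [1, 3, 0, 3, 1, 2, 0, 2, 2], [3, 1, 3, 0, 2, 1, 2, 0, 1, 2, 0], [3, 1, 2, 0, 2, 1, 3, 0, 3, 3], [1, 3, 0, 2, 1, 2, 0, 3, 1, 3, 0, 1, 3, 0], [2, 1, 3, 0, 3, 1, 2, 0, 2, 2], [1, 2, 0, 3, 1, 3, 0, 2, 1, 2, 0, 1, 2, 0], [3, 3, 1, 2, 0, 2, 1, 3, 0, 3, 3], [1, 3, 0, 3, 1, 2, 0, 2, 1, 3, 0, 3, 3], [3, 1, 3, 0, 2, 1, 2, 0, 3, 1, 3, 0, 1, 3,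 0], [2, 2, 1, 3, 0, 3, 1, 2, 0, 2, 2], [3, 1, 3, 0, 3, 1, 2, 0, 2, 1, 3, 0, 3, 3]]
/-- the closure -/
def czNext : List ℕ := [3, 4, 0, 3, 4, 0, 8, 6, 6, 9, 1, 12, 2, 1, 12, 2, 10, 15, 16, 14, 5, 18, 21, 5, 9, 8, 7, 24, 26, 7, 28, 20, 22, 30, 32, 10, 34, 17, 11, 28, 20, 11, 27, 35, 13, 22, 30, 13, 37, 29, 14, 38, 25, 31, 15, 32, 19, 19, 38, 16, 23, 23, 17, 39, 36, 36, 18, 21, 40, 25, 39, 34, 24, 26, 31, 40, 33, 33, 43, 27, 29, 44, 35, 43, 44, 37, 48, 46, 47, 48, 41, 42, 49, 41, 42, 49, 45, 45, 46, 47]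

end CfsgLib.InvChar.SporHN
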