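import Cfsg.Agent.Lib.InvChar.SporHNTrace

/-! The saturation. -/

set_option autoImplicit false
set_option maxRecDepth 100000

namespace CfsgLib.InvChar.SporHN

open CfsgLib.InvChar.Coset

/-- roots with a certificate -/
def certK : List ℕ := [0, 1, 2, 3, 4, 5, 6, 7, 8, 10, 11, 12, 13, 14, 15, 18, 21, 26, 27, 29, 34, 45, 46, 47, 50, 52, 55, 82, 92, 99]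
/-- stabiliser words with a certificate -/
def certG : List (ℕ × List ℕ) := [(4, [3, 4, 2, 1, 1]), (4, [1, 4, 3, 4, 2, 4, 1])]
/-- the steps -/
def events : List Ev := [
  .cert 0,
  .cert 1,
  .cert 2,
  .cert 3,
  .cert 4,
  .cert 5,
  .cert 6,
  .cert 7,
  .cert 8,
  .cert 10,
  .cert 11,
  .cert 12,
  .cert 13,
  .cert 14,
  .cert 15,
  .cert 18,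
  .cert 21,
  .cert 26,
  .cert 27,
  .cert 29,
  .cert 34,
  .cert 45,
  .cert 46,
  .cert 47,
  .cert 50,
  .cert 52,
  .cert 55,
  .cert 82,
  .cert 92,
  .cert 99,
  .good 1 [some ⟨1, 0, [2], 1, [], [(0, [], 0), (0, [], 0)], []⟩, some ⟨1, 0, [1, 2, 0], 1, [], [(0, [], 0), (0, [], 0)], []⟩],
  .good 2 [some ⟨1, 0, [1, 2, 2, 0, 2, 1, 2, 0, 2, 1, 2, 0, 3, 3, 3, 1, 3, 3, 0], 2, [0, 0], [(6, [], 0), (6, [], 15937)], []⟩, some ⟨1, 0, [2, 2, 2, 1, 2, 0, 2, 1, 2, 0, 3, 3, 1, 3, 3, 3, 0], 2, [0, 0], [(6, [], 0), (6, [], 55920)], []⟩, some ⟨0, 2, [], 1, [0, 0, 4], [(3, [], 24400), (14, [], 0)], [(6, [], 0)]⟩],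
  .good 4 [some ⟨1, 0, [2, 2, 2, 1, 2, 2, 0, 2, 1, 2, 2, 0, 2, 1, 2, 0, 2, 1, 3, 0, 3, 3, 3, 3, 1, 3, 0, 3, 3, 3], 4, [], [(10, [], 0), (10, [], 5927)], []⟩, none, none],
  .loop 19 [] 1 [(34, [2, 2, 1, 3, 0, 2, 1, 2, 0, 1, 2, 0, 2, 2, 1, 3, 0, 1, 3, 0], 2731), (21, [1, 3, 0, 2], 375)] [1, 2, 4, 1, 3, 0, 2, 1],
  .loop 20 [] 1 [(19, [1, 3, 0, 2], 2983), (47, [1, 3, 0, 2], 0)] [0, 0, 1, 3, 0, 2, 1],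
  .loop 24 [2, 1, 2, 0] 2 [(34, [2, 2, 1, 2, 0, 2, 1, 3, 0, 2, 2, 1, 2, 0, 1, 2, 0], 453), (82, [2, 2, 2, 1, 3, 0, 2, 2, 1, 3, 0, 1, 3, 0, 3, 1, 2, 0, 1, 2, 0, 3], 1083)] [2, 0, 2, 0, 2, 2, 0, 2, 2, 0, 4, 2, 2, 2, 1, 3, 0, 2, 2, 1, 3, 0, 1, 3, 0, 3, 1, 2, 0, 1, 2, 0, 3, 4],
  .loop 31 [1, 2, 0] 2 [(21, [2, 2, 1, 3, 0, 3, 1, 2, 0, 2, 2, 2, 1, 2, 0], 843), (8, [1, 3, 0, 1, 3, 0, 3, 1, 2, 0, 2, 1, 3, 0], 3781)] [1, 4, 1, 3, 0, 1, 3, 0, 3, 1, 2, 0, 2, 1, 3, 0, 4],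
  .loop 32 [] 1 [(10, [3, 1, 2, 0], 0), (31, [3, 1, 2, 0], 44291)] [2, 2, 0, 2, 0, 3, 0, 2, 2, 1, 3, 3, 3, 1, 2, 0, 1],
  .loop 33 [3] 2 [(10, [2, 2, 1, 3, 0, 3, 1, 2, 0, 2, 2], 1260), (12, [2, 2, 1, 2, 0, 3, 1, 3, 0, 2, 2], 115255)] [2, 2, 1, 2, 0, 3, 1, 3, 0, 2, 2, 4],
  .loop 36 [] 2 [(10, [2, 2, 2, 1, 3, 0, 2, 1, 2, 0, 3, 3], 786), (26, [2], 75169)] [2, 4],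
  .loop 38 [] 2 [(32, [], 752), (46, [], 0)] [4],
  .loop 41 [3, 3] 2 [(21, [2, 1, 2, 0, 3, 1, 3, 0, 2, 1, 2, 0, 2], 323), (47, [2, 2, 1, 2, 0, 2, 2, 1, 3, 0, 1, 3, 0, 2, 1, 2, 0], 1783)] [0, 0, 2, 2, 1, 2, 0, 2, 2, 1, 3, 0, 1, 3, 0, 2, 1, 2, 0, 4],
  .good 3 [some ⟨1, 0, [1, 2, 2, 0, 2, 2, 2, 1, 2, 0, 2, 2, 1, 3, 0, 3, 1, 3, 3, 3, 0], 3, [], [(7, [], 0), (7, [], 15076)], []⟩, some ⟨1, 0, [1, 2, 2, 2, 2, 0, 2, 1, 2, 2, 0, 2, 2, 1, 3, 3, 3, 3, 0, 3, 3, 1, 3, 0, 3], 3, [2, 4], [(36, [], 0), (36, [], 561)], []⟩, some ⟨0, 2, [], 1, [0, 4], [(4, [], 24400), (26, [], 0)], [(7, [], 0)]⟩],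
  .good 5 [some ⟨1, 0, [1, 2, 2, 2, 2, 0, 2, 1, 2, 2, 2, 2, 0, 3, 1, 3, 0, 3, 1, 3, 0, 3, 3], 5, [], [(18, [], 0), (18, [], 2930)], []⟩, some ⟨1, 0, [2, 1, 2, 0, 2, 2, 2, 1, 2, 0, 2, 1, 2, 2, 0, 2, 1, 2, 0, 3, 3, 1, 3, 0, 3, 1, 3, 3, 3, 0, 3, 1, 3, 0, 3], 5, [], [(18, [], 0), (18, [], 2929)], []⟩, some ⟨1, 0, [1, 2, 2, 2, 2, 0, 2, 2, 1, 2, 0, 2, 1, 2, 2, 2, 0, 3, 3, 3, 1, 3, 3, 3, 0, 3, 1, 3, 0, 3], 5, [0, 0, 4], [(29, [], 0), (29, [], 32234)], []⟩, some ⟨0, 2, [], 2, [2, 4, 3], [(33, [2, 2, 2, 1, 3, 0, 2, 1, 2, 0, 3, 3, 1, 3, 0], 800), (46, [3], 558)], [(18, [3], 0)]⟩],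
  .loop 9 [] 2 [(12, [2], 24400), (19, [2, 1, 2, 0, 2, 2, 2, 1, 2, 0, 2, 2], 2758)] [0, 0, 2, 4, 2, 1, 2, 0, 2, 2, 2, 1, 2, 0, 2, 2, 4],
  .loop 16 [2, 2, 1, 2, 0, 1, 2, 0, 2, 1, 2, 0, 1, 2, 0, 1, 2, 0] 2 [(6, [2, 2, 2, 1, 3, 0, 3], 2199), (31, [1, 2, 0, 1, 2, 0, 2], 119938)] [2, 2, 0, 2, 0, 3, 0, 2, 2, 1, 3, 3, 1, 2, 0, 1, 2, 0, 2, 4],
  .loop 17 [] 0 [(33, [], 3311), (32, [], 752), (16, [], 1108), (9, [], 2999)] [4, 2, 4],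
  .loop 22 [] 1 [(33, [2, 2, 2, 1, 3, 0, 2, 1, 2, 0, 3, 3], 1756), (32, [2, 2, 2, 1, 3, 0, 2, 1, 2, 0, 3, 3], 752)] [3, 1, 2, 2, 2, 2, 1, 3, 0, 2, 1, 2, 0, 3, 3, 1],
  .loop 23 [] 1 [(9, [], 2999), (17, [], 0)] [0, 3, 3, 1, 3, 4, 3, 3, 4, 3, 3, 4, 3, 1],
  .loop 28 [] 1 [(50, [1, 3, 0, 2], 36679), (38, [1, 3, 0, 2], 0)] [2, 2, 0, 2, 2, 0, 3, 3, 1, 3, 3, 4, 1, 3, 0, 2, 1],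
  .loop 30 [] 0 [(10, [], 0), (31, [], 44291), (22, [1, 3, 0, 2], 873), (23, [2, 2, 1, 3, 0, 3, 1, 2, 0, 2, 1, 3, 0, 1, 3, 0], 1110)] [3, 4, 2, 1, 4, 2, 2, 1, 3, 0, 3, 1, 2, 0, 2, 1, 3, 0, 1, 3, 0],
  .loop 35 [2, 2, 1, 2, 0, 1, 2, 0, 2, 1, 2, 0, 1, 2, 0, 1, 2, 0] 2 [(28, [2, 2, 1, 2, 0, 1, 2, 0, 2, 1, 2, 0, 1, 2, 0, 1, 2, 0], 1090), (50, [2, 2, 1, 2, 0, 1, 2, 0, 2, 1, 2, 0, 1, 2, 0, 1, 2, 0], 75805)] [4, 2, 2, 1, 2, 0, 1, 2, 0, 2, 1, 2, 0, 1, 2, 0, 1, 2, 0, 4],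
  .loop 37 [] 0 [(46, [], 0), (18, [], 0), (19, [2, 1, 2, 0, 2, 2, 2, 1, 2, 0, 2, 2], 2758), (47, [2, 1, 2, 0, 2, 2, 2, 1, 2, 0, 2, 2], 0)] [0, 0, 2, 1, 2, 0, 2, 2, 2, 1, 2, 0, 2, 2],
  .loop 39 [] 1 [(28, [1, 3, 0, 2], 786), (36, [1, 3, 0, 2], 0)] [2, 2, 0, 2, 0, 3, 0, 2, 2, 0, 3, 3, 4, 1, 3, 0, 2, 1],
  .loop 43 [3, 3] 2 [(46, [2, 1, 2, 0, 3, 1, 3, 0, 2, 1, 2, 0, 2], 294), (41, [1, 2, 0, 1, 2, 0, 1, 2, 0, 3, 3, 1, 2, 0, 3, 1, 3, 0, 2, 1, 2, 0], 107)] [2, 2, 0, 2, 0, 3, 0, 2, 2, 1, 3, 4, 1, 2, 0, 1, 2, 0, 1, 2, 0, 3, 3, 1, 2, 0, 3, 1, 3, 0, 2, 1, 2, 0, 4],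
  .loop 44 [1, 3, 0, 1, 3, 0] 2 [(28, [2, 2, 1, 2, 0, 1, 2, 0, 3, 3, 1, 2, 0, 1, 2, 0], 958), (50, [2, 2, 1, 3, 0, 2, 2, 1, 2, 0, 1, 2, 0, 1, 2, 0, 2], 8787)] [4, 2, 2, 1, 3, 0, 2, 2, 1, 2, 0, 1, 2, 0, 1, 2, 0, 2, 4],
  .loop 48 [] 1 [(37, [2, 2, 1, 3, 0, 2, 1, 2, 0, 1, 2, 0, 2, 2, 1, 3, 0, 1, 3, 0], 136), (46, [2, 2, 1, 3, 0, 2, 1, 2, 0, 1, 2, 0, 2, 2, 1, 3, 0, 1, 3, 0], 0)] [2, 2, 1, 3, 0, 2, 1, 2, 0, 1, 2, 0, 2, 2, 1, 3, 0, 1, 3, 0, 1],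
  .loop 49 [] 0 [(48, [2, 1, 2, 0, 2, 2, 2, 1, 2, 0, 2, 2], 176), (20, [2, 1, 2, 0, 2, 2, 2, 1, 2, 0, 2, 2], 0), (34, [2, 1, 2, 0, 2, 2, 2, 1, 2, 0, 2, 2], 0), (21, [], 459)] [1, 2, 4],
  .loop 51 [] 0 [(29, [], 0), (50, [], 0), (38, [], 0), (39, [], 569)] [2, 2, 0, 2, 2, 0, 3, 3, 0, 3, 3, 4],
  .loop 53 [] 0 [(52, [], 0), (35, [], 48), (28, [], 668), (36, [], 0)] [2, 2, 0, 2, 0, 3, 0, 2, 2, 0, 3, 3, 4],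
  .loop 54 [2, 1, 2, 0, 2, 2] 2 [(44, [3, 1, 2, 0, 1, 2, 0, 2, 2, 1, 3, 0, 2, 1, 2, 0, 2, 1, 2, 0, 1, 2, 0], 130), (82, [2, 1, 2, 0, 3, 3, 1, 2, 0, 2, 1, 2, 0, 1, 2, 0, 2, 2], 564)] [2, 0, 2, 0, 2, 2, 0, 2, 2, 0, 4, 2, 1, 2, 0, 3, 3, 1, 2, 0, 2, 1, 2, 0, 1, 2, 0, 2, 2, 4],
  .loop 56 [2, 2, 2] 2 [(44, [1, 2, 0, 1, 2, 0, 2, 2, 1, 3, 0, 1, 3, 0, 2, 2, 2], 22), (43, [2, 1, 3, 0, 3, 1, 2, 0, 1, 2, 0, 2, 1, 2, 0, 2, 2, 1, 2, 0, 1, 2, 0, 3], 194)] [2, 2, 0, 2, 2, 0, 3, 3, 1, 3, 4, 2, 1, 3, 0, 3, 1, 2, 0, 1, 2, 0, 2, 1, 2, 0, 2, 2, 1, 2, 0, 1, 2, 0, 3, 4],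
  .loop 57 [1, 3, 0, 1, 3, 0] 2 [(41, [1, 3, 0, 1, 3, 0, 2, 1, 2, 0, 2, 1, 3, 0, 3, 1, 2, 0, 2, 2], 108), (82, [2, 1, 3, 0, 3, 1, 2, 0, 2, 1, 3, 0, 3, 3], 1378)] [2, 0, 2, 0, 2, 2, 0, 2, 2, 0, 4, 2, 1, 3, 0, 3, 1, 2, 0, 2, 1, 3, 0, 3, 3, 4],
  .loop 58 [1, 2, 0] 2 [(44, [1, 3, 0, 2, 1, 2, 0, 2, 2, 1, 2, 0, 3, 3, 1, 3, 0, 1, 3, 0], 71), (21, [2, 1, 2, 0, 2, 1, 3, 0, 3, 1, 2, 0, 2, 1, 3, 0], 456)] [1, 2, 4, 2, 1, 2, 0, 2, 1, 3, 0, 3, 1, 2, 0, 2, 1, 3, 0, 4],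
  .loop 59 [] 2 [(20, [2], 146), (58, [], 4816)] [4, 3, 4, 2, 2, 0, 3, 4, 2, 4],
  .loop 61 [] 2 [(48, [1, 3, 0], 102), (99, [1, 2, 0, 3], 146)] [1, 2, 0, 3, 4],
  .loop 62 [] 2 [(20, [2, 1, 2, 0, 2, 2, 2, 1, 2, 0, 2, 2, 1, 3, 0], 62), (47, [1, 3, 0], 2401)] [0, 0, 1, 3, 0, 4],
  .loop 63 [2, 1, 2, 0] 2 [(38, [2, 2, 1, 2, 0, 2, 1, 3, 0, 2, 2, 1, 2, 0, 1, 2, 0], 225), (82, [2, 2, 1, 2, 0, 2, 1, 3, 0, 3, 1, 3, 0, 2, 2, 1, 3, 0, 2], 357)] [2, 0, 2, 0, 2, 2, 0, 2, 2, 0, 4, 2, 2, 1, 2, 0, 2, 1, 3, 0, 3, 1, 3, 0, 2, 2, 1, 3, 0, 2, 4],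
  .loop 64 [2, 2] 2 [(59, [1, 2, 0, 2, 1, 2, 0, 3, 3, 1, 2, 0, 2, 2, 1, 2, 0, 2, 2, 1, 3, 0], 189), (59, [2, 2, 1, 3, 0, 1, 3, 0, 3, 3, 1, 3, 0, 1, 3, 0, 3, 3], 154)] [0, 3, 0, 2, 1, 2, 4, 2, 2, 1, 3, 0, 1, 3, 0, 3, 3, 1, 3, 0, 1, 3, 0, 3, 3, 4],
  .loop 65 [] 1 [(41, [2, 1, 2, 0, 1, 2, 0, 2, 1, 3, 0, 1, 3, 0, 3, 1, 2, 0, 2, 1, 3, 0, 1, 3, 0], 79), (82, [2, 1, 2, 0, 1, 2, 0, 2, 1, 3, 0, 1, 3, 0, 3, 1, 2, 0, 2, 1, 3, 0, 1, 3, 0], 0)] [2, 0, 2, 0, 2, 2, 0, 2, 2, 0, 4, 2, 1, 2, 0, 1, 2, 0, 2, 1, 3, 0, 1, 3, 0, 3, 1, 2, 0, 2, 1, 3, 0, 1, 3, 0, 1],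
  .loop 66 [2, 2, 1, 2, 0, 1, 2, 0, 2, 1, 2, 0, 1, 2, 0, 1, 2, 0] 2 [(59, [1, 3, 0, 2, 2, 2, 1, 3, 0, 1, 3, 0, 3, 1, 3, 0, 1, 3, 0, 2, 2, 1, 2, 0], 208), (92, [1, 2, 0, 2, 2, 1, 2, 0, 2, 2, 1, 2, 0, 3], 208)] [1, 2, 0, 2, 2, 1, 2, 0, 2, 2, 1, 2, 0, 3, 4],
  .loop 67 [] 2 [(29, [2], 146), (36, [1, 3, 0, 2, 1, 2, 0], 53297)] [2, 2, 0, 2, 0, 3, 0, 2, 2, 0, 3, 3, 4, 1, 3, 0, 2, 1, 2, 0, 4],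
  .loop 68 [] 2 [(18, [2, 1, 2, 0, 2, 2, 2, 1, 2, 0, 2, 2, 1, 3, 0], 110), (49, [1, 3, 0], 2246)] [0, 3, 0, 2, 0, 1, 3, 0, 4],
  .loop 69 [] 2 [(37, [1, 3, 0], 110), (46, [2, 1, 2, 0, 2, 2, 2, 1, 2, 0, 2, 2, 1, 3, 0], 257)] [2, 1, 2, 0, 2, 2, 2, 1, 2, 0, 2, 2, 1, 3, 0, 4],
  .loop 70 [] 1 [(44, [3, 1, 3, 0, 2, 1, 2, 0, 2, 1, 3, 0, 3, 1, 2, 0, 2, 1, 3, 0], 97), (67, [2, 2, 2, 1, 2, 0, 2, 1, 3, 0, 3, 1, 2, 0, 1, 2, 0, 1, 2, 0], 886)] [0, 0, 4, 2, 4, 2, 2, 2, 1, 2, 0, 2, 1, 3, 0, 3, 1, 2, 0, 1, 2, 0, 1, 2, 0, 1],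
  .loop 71 [1, 2, 0] 2 [(59, [1, 2, 0, 3, 1, 3, 0, 3, 1, 2, 0, 3, 3, 1, 2, 0, 2, 2, 2, 1, 3, 0, 1, 3, 0], 39), (92, [1, 2, 0, 1, 2, 0, 2, 1, 2, 0, 2, 2, 1, 2, 0, 3, 3, 1, 3, 0, 2, 2, 1, 2, 0], 226)] [1, 2, 0, 1, 2, 0, 2, 1, 2, 0, 2, 2, 1, 2, 0, 3, 3, 1, 3, 0, 2, 2, 1, 2, 0, 4],
  .loop 72 [2, 1, 3, 0, 1, 3, 0] 2 [(44, [2, 1, 3, 0, 3, 1, 2, 0, 3, 1, 3, 0, 1, 3, 0, 3, 1, 3, 0, 1, 3, 0, 3, 3], 227), (67, [2, 1, 3, 0, 1, 3, 0, 3, 1, 3, 0, 1, 3, 0, 2, 2, 1, 2, 0, 2, 2], 1183)] [0, 0, 4, 2, 4, 2, 1, 3, 0, 1, 3, 0, 3, 1, 3, 0, 1, 3, 0, 2, 2, 1, 2, 0, 2, 2, 4],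
  .loop 73 [2, 2] 2 [(44, [1, 2, 0, 2, 2, 1, 3, 0, 3, 3, 1, 2, 0, 3, 3, 1, 2, 0], 2), (67, [3, 1, 2, 0, 1, 2, 0, 1, 2, 0, 2, 1, 2, 0, 1, 2, 0, 2], 132)] [0, 0, 4, 2, 4, 3, 1, 2, 0, 1, 2, 0, 1, 2, 0, 2, 1, 2, 0, 1, 2, 0, 2, 4],
  .loop 74 [] 1 [(72, [2, 2, 1, 3, 0, 2, 2, 1, 2, 0, 3], 38), (72, [3, 1, 3, 0, 3, 3, 1, 3, 0, 1, 3, 0, 3, 1, 2, 0, 2], 22)] [2, 4, 2, 4, 3, 1, 3, 0, 3, 3, 1, 3, 0, 1, 3, 0, 3, 1, 2, 0, 2, 1],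
  .loop 75 [] 1 [(73, [1, 2, 0, 3, 3, 1, 3, 0, 1, 3, 0, 3, 1, 3, 0, 2, 1, 2, 0, 1, 2, 0], 235), (73, [1, 2, 0, 2, 1, 3, 0, 1, 3, 0, 3, 1, 2, 0, 2, 1, 3, 0, 3, 3], 34)] [0, 0, 2, 4, 2, 4, 1, 2, 0, 2, 1, 3, 0, 1, 3, 0, 3, 1, 2, 0, 2, 1, 3, 0, 3, 3, 1],
  .good 6 [some ⟨1, 0, [2, 2, 2, 2, 1, 2, 0, 2, 2, 2, 2, 1, 3, 3, 0, 3, 1, 3, 3, 0, 3, 1, 3, 3, 0], 6, [], [(11, [], 0), (11, [], 3650)], []⟩, some ⟨0, 2, [], 5, [0, 2, 4, 2, 2, 2], [(41, [2, 1, 3, 0, 3, 1, 2, 0, 1, 2, 0, 2, 1, 3, 0, 2, 2, 1, 2, 0, 1, 2, 0, 2], 52), (82, [1, 3, 0, 2, 2, 1, 3, 0, 1, 3, 0, 3, 3, 1, 3, 0, 3, 1, 2, 0, 2], 322)], [(65, [2, 2, 2], 0)]⟩],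
  .good 7 [some ⟨0, 2, [], 4, [3, 1, 2, 4, 2, 4, 1, 2, 0, 2, 2], [(67, [3, 3, 1, 3, 0, 2, 2, 1, 2, 0, 2, 1, 3, 0, 3, 1, 2, 0, 1, 2, 0], 282), (92, [2, 1, 3, 0, 2, 1, 2, 0, 2, 2, 1, 2, 0, 3, 1, 3, 0, 2, 1, 2, 0, 3], 166)], [(45, [1, 2, 0, 2, 2], 0)]⟩, some ⟨0, 2, [], 5, [0, 0, 2, 4, 2], [(73, [2, 1, 2, 0, 3, 3, 1, 2, 0, 1, 2, 0, 2, 1, 2, 0, 1, 2, 0, 1, 2, 0, 3], 34), (92, [1, 3, 0, 3, 3, 1, 3, 0, 2, 1, 2, 0, 1, 2, 0], 134)], [(55, [2], 0)]⟩],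
  .good 8 [some ⟨2, 0, [2, 1, 2, 0, 2, 1, 2, 2, 2, 0, 2, 1, 2, 0, 2, 2, 2, 2, 1, 3, 3, 3, 3, 0, 3, 3, 3, 1, 3, 3, 0, 3], 8, [], [(99, [], 0), (99, [], 101)], []⟩, some ⟨0, 0, [], 5, [3, 1, 2, 4, 3], [(68, [2, 1, 3, 0], 146), (69, [2, 1, 3, 0], 110), (62, [], 146), (99, [], 0)], [(61, [], 0)]⟩, some ⟨0, 2, [], 5, [3, 1, 2, 4, 3, 2, 1, 2, 0], [(59, [2, 1, 3, 0, 2, 2, 1, 2, 0, 2, 2, 1, 3, 0, 1, 3, 0, 3, 1, 2, 0, 1, 2, 0, 2], 84), (99, [2, 2, 1, 2, 0, 3, 1, 3, 0, 2, 1, 2, 0, 3], 43)], [(61, [2, 1, 2, 0], 0)]⟩],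
  .loop 25 [] 2 [(34, [2], 2983), (67, [2, 1, 3, 0, 3, 1, 2, 0, 2, 1, 3, 0], 526)] [0, 0, 4, 2, 4, 2, 1, 3, 0, 3, 1, 2, 0, 2, 1, 3, 0, 4],
  .loop 42 [2, 2] 2 [(43, [2, 2, 1, 3, 0, 2, 1, 2, 0, 2, 2, 1, 2, 0, 2], 1062), (82, [2, 1, 2, 0, 2, 2, 1, 2, 0, 3, 1, 3, 0], 1178)] [2, 0, 2, 0, 2, 2, 0, 2, 2, 0, 4, 2, 1, 2, 0, 2, 2, 1, 2, 0, 3, 1, 3, 0, 4],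
  .loop 77 [] 2 [(24, [], 278), (9, [2], 2999)] [4, 2, 4, 2, 4],
  .loop 79 [] 1 [(11, [], 49), (77, [], 0)] [0, 3, 0, 2, 0, 3, 3, 1, 2, 2, 1],
  .loop 80 [] 1 [(57, [1, 2, 0, 2, 2, 1, 2, 0, 3, 3, 1, 3, 0, 1, 3, 0], 476), (25, [1, 2, 0, 2, 2, 1, 2, 0, 3, 3, 1, 3, 0, 1, 3, 0], 184)] [0, 2, 4, 2, 4, 1, 2, 0, 2, 2, 1, 2, 0, 3, 3, 1, 3, 0, 1, 3, 0, 1],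
  .loop 81 [] 0 [(24, [], 278), (80, [2, 2, 1, 2, 0, 1, 2, 0, 3, 1, 3, 0, 2, 1, 2, 0, 2, 1, 2, 0, 1, 2, 0, 1, 2, 0], 2230), (63, [2, 2, 1, 2, 0, 1, 2, 0, 3, 1, 3, 0, 2, 1, 2, 0, 2, 1, 2, 0, 1, 2, 0, 1, 2, 0], 312), (64, [], 228)] [0, 2, 2, 4, 3, 3, 4, 3, 0, 2, 2, 2, 0, 3],
  .loop 83 [3, 3] 2 [(24, [2, 1, 2, 0, 1, 2, 0, 3, 3, 1, 3, 0, 3, 1, 2, 0, 2, 2], 493), (80, [3, 1, 2, 0, 2, 2, 1, 3, 0, 1, 3, 0, 2, 2, 1, 2, 0, 2, 1, 3, 0], 4380)] [4, 3, 1, 2, 0, 2, 2, 1, 3, 0, 1, 3, 0, 2, 2, 1, 2, 0, 2, 1, 3, 0, 4],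
  .loop 84 [] 1 [(63, [], 312), (64, [1, 2, 0, 1, 2, 0, 1, 2, 0, 3, 3, 1, 2, 0, 3, 1, 3, 0, 2, 1, 2, 0, 2, 2], 228)] [0, 2, 2, 4, 3, 3, 4, 3, 0, 2, 2, 2, 0, 3, 1, 2, 0, 1, 2, 0, 1, 2, 0, 3, 3, 1, 2, 0, 3, 1, 3, 0, 2, 1, 2, 0, 2, 2, 1],
  .loop 85 [] 0 [(57, [1, 2, 0, 2, 2, 1, 2, 0, 3, 3, 1, 3, 0, 1, 3, 0], 476), (25, [1, 2, 0, 2, 2, 1, 2, 0, 3, 3, 1, 3, 0, 1, 3, 0], 184), (58, [1, 2, 0, 2, 2, 1, 2, 0, 3, 3, 1, 3, 0, 1, 3, 0], 4816), (84, [1, 2, 0, 2, 2, 1, 3, 0, 1, 3, 0, 3, 3, 1, 2, 0, 3, 1, 3, 0], 44)] [0, 4, 1, 2, 0, 2, 2, 1, 3, 0, 1, 3, 0, 3, 3, 1, 2, 0, 3, 1, 3, 0],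
  .loop 86 [2, 1, 2, 0] 2 [(63, [2, 2, 1, 2, 0, 2, 1, 3, 0, 3, 1, 3, 0, 2, 2, 1, 3, 0, 2], 111), (64, [2, 1, 2, 0, 2, 1, 3, 0, 2, 2, 1, 3, 0, 3, 3, 1, 2, 0, 2], 171)] [0, 2, 2, 4, 3, 3, 4, 3, 0, 2, 2, 2, 0, 3, 2, 1, 2, 0, 2, 1, 3, 0, 2, 2, 1, 3, 0, 3, 3, 1, 2, 0, 2, 4],
  .loop 87 [] 0 [(65, [2, 2, 1, 2, 0, 1, 2, 0, 3, 3, 1, 2, 0, 1, 2, 0, 2, 1, 3, 0], 235), (86, [2, 1, 3, 0, 3, 3, 1, 2, 0, 1, 2, 0, 3, 3, 1, 3, 0, 3, 1, 2, 0], 61), (42, [1, 2, 0, 3, 3, 1, 2, 0, 2, 2, 1, 2, 0, 3, 3, 1, 2, 0], 384), (43, [2, 2, 2, 1, 2, 0, 2, 1, 2, 0, 1, 2, 0, 3, 3, 1, 3, 0, 1, 3, 0, 3, 1, 2, 0], 117)] [2, 2, 0, 2, 2, 0, 3, 3, 1, 3, 4, 2, 2, 2, 1, 2, 0, 2, 1, 2, 0, 1, 2, 0, 3, 3, 1, 3, 0, 1, 3, 0, 3,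 1, 2, 0],
  .loop 88 [2] 2 [(24, [2, 2, 1, 2, 0, 1, 2, 0, 2, 2, 1, 2, 0, 2, 1, 2, 0, 3], 401), (80, [3, 1, 2, 0, 2, 1, 3, 0, 3, 1, 3, 0, 2, 1, 2, 0, 3, 1, 3, 0, 2], 3010)] [4, 3, 1, 2, 0, 2, 1, 3, 0, 3, 1, 3, 0, 2, 1, 2, 0, 3, 1, 3, 0, 2, 4],
  .loop 89 [] 0 [(88, [2, 1, 2, 0, 2, 1, 3, 0, 2, 1, 2, 0, 2, 1, 2, 0, 1, 2, 0, 1, 2, 0, 2, 1, 2, 0, 2], 237), (54, [2, 1, 2, 0, 2, 1, 3, 0, 2, 1, 2, 0, 2, 1, 2, 0, 1, 2, 0, 1, 2, 0, 2, 1, 2, 0, 2], 222), (92, [2, 1, 2, 0, 2, 1, 3, 0, 2, 1, 2, 0, 2, 1, 2, 0, 1, 2, 0, 1, 2, 0, 2, 1, 2, 0, 2], 0), (55, [], 379)] [0, 0, 2, 4],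
  .loop 90 [] 1 [(88, [3, 1, 3, 0, 2, 1, 2, 0], 246), (54, [3, 1, 3, 0, 2, 1, 2, 0], 222)] [2, 4, 3, 1, 3, 0, 2, 1, 2, 0, 1],
  .loop 91 [] 1 [(54, [2, 1, 2, 0, 2, 2, 2, 1, 2, 0, 2, 1, 2, 0, 3, 3, 1, 3, 0], 222), (92, [2, 1, 2, 0, 2, 2, 2, 1, 2, 0, 2, 1, 2, 0, 3, 3, 1, 3, 0], 0)] [2, 1, 2, 0, 2, 2, 2, 1, 2, 0, 2, 1, 2, 0, 3, 3, 1, 3, 0, 1],
  .loop 93 [] 2 [(55, [2, 1, 2, 0, 2, 1, 3, 0, 2, 1, 2, 0, 2, 1, 2, 0, 1, 2, 0, 1, 2, 0, 2, 1, 2, 0, 2], 379), (64, [1, 3, 0, 2], 90)] [0, 2, 2, 4, 3, 3, 4, 3, 0, 2, 2, 2, 0, 3, 1, 3, 0, 2, 4],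
  .loop 94 [] 0 [(71, [2, 1, 3, 0, 3, 1, 2, 0, 2, 1, 3, 0], 185), (70, [2, 1, 2, 0, 2, 1, 3, 0, 3, 1, 3, 0, 2, 1, 2, 0, 1, 2, 0, 2, 1, 3, 0, 1, 3, 0], 146), (93, [], 56), (45, [], 0)] [3, 1, 2, 4, 2, 4],
  .loop 95 [] 1 [(55, [], 0), (89, [], 0)] [1, 3, 4, 2, 4, 3, 4, 3, 4, 2, 2, 1],
  .loop 96 [] 1 [(45, [2, 1, 3, 0, 3, 1, 2, 0, 2, 1, 2, 0, 1, 2, 0, 1, 2, 0, 2, 1, 2, 0], 90), (94, [2, 1, 3, 0, 3, 1, 2, 0, 2, 1, 2, 0, 1, 2, 0, 1, 2, 0, 2, 1, 2, 0], 0)] [3, 0, 3, 1, 2, 2, 4, 2, 1, 3, 0, 3, 1, 2, 0, 2, 1, 2, 0, 1, 2, 0, 1, 2, 0, 2, 1, 2, 0, 1],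
  .loop 97 [] 0 [(96, [3, 3, 1, 3, 0, 2, 1, 2, 0, 3, 1, 3, 0, 2, 1, 2, 0, 2], 64), (66, [3, 3, 1, 3, 0, 2, 1, 2, 0, 3, 1, 3, 0, 2, 1, 2, 0, 2], 38), (44, [1, 2, 0, 3, 1, 3, 0, 2, 1, 2, 0, 3], 177), (67, [], 526)] [0, 0, 4, 2, 4],
  .loop 98 [] 2 [(55, [3, 1, 3, 0, 2, 1, 2, 0, 2], 532), (92, [2, 1, 3, 0, 3, 3, 1, 2, 0, 2, 2, 1, 3, 0, 1, 3, 0, 2, 1, 2, 0, 1, 2, 0, 2], 29)] [2, 1, 3, 0, 3, 3, 1, 2, 0, 2, 2, 1, 3, 0, 1, 3, 0, 2, 1, 2, 0, 1, 2, 0, 2, 4],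
  .loop 100 [] 2 [(61, [2, 1, 2, 0, 1, 2, 0, 3, 1, 3, 0, 2, 1, 2, 0, 2, 2], 19701), (99, [2, 1, 2, 0, 1, 2, 0, 3, 1, 3, 0, 2, 1, 2, 0, 2, 2], 228)] [2, 1, 2, 0, 1, 2, 0, 3, 1, 3, 0, 2, 1, 2, 0, 2, 2, 4],
  .loop 40 [] 0 [(56, [], 1236), (41, [2, 1, 3, 0, 1, 3, 0, 2, 2, 1, 3, 0, 1, 3, 0, 3, 1, 2, 0, 1, 2, 0, 1, 2, 0], 13), (82, [2, 1, 3, 0, 1, 3, 0, 2, 2, 1, 3, 0, 1, 3, 0, 3, 1, 2, 0, 1, 2, 0, 1, 2, 0], 0), (83, [], 331)] [4, 3, 0, 4, 3, 1, 2, 4, 2, 4],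
  .loop 60 [] 0 [(59, [2, 2, 1, 2, 0, 2, 1, 3, 0, 2, 1, 2, 0, 2, 1, 3, 0, 3], 208), (90, [2, 2, 1, 2, 0, 2, 1, 3, 0, 2, 1, 2, 0, 2, 1, 3, 0, 3], 146), (95, [3, 1, 3, 0, 2, 1, 2, 0], 49), (91, [], 379)] [3, 3, 4, 2, 4, 2, 1],
  .loop 76 [] 2 [(63, [], 312), (86, [], 39)] [2, 2, 0, 2, 0, 3, 0, 4, 4],
  .loop 78 [] 0 [(79, [2, 1, 2, 0, 1, 2, 0, 2, 1, 3, 0, 3], 230), (76, [2, 2, 1, 2, 0, 3], 183), (11, [2, 2, 1, 2, 0, 3], 0), (77, [2, 2, 1, 2, 0, 3], 0)] [0, 3, 0, 2, 0, 3, 3, 1, 2, 2, 2, 2, 1, 2, 0, 3]]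

theorem events_ok : ((runEv certK certG events ([], [0])).map fun st =>
    ((List.range 101).all fun k => st.1.contains k) && (List.range 9).all fun j => st.2.contains j) = some true := by
  decide +kernel

end CfsgLib.InvChar.SporHN
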