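import Cfsg.Agent.Lib.InvChar.SporData.HN.E1.Main
import Cfsg.Agent.Lib.InvChar.SporData.HN.E2.Main
import Cfsg.Agent.Lib.InvChar.SporData.HN.E3.Main
import Cfsg.Agent.Lib.InvChar.SporData.HN.E4.Main
import Cfsg.Agent.Lib.InvChar.SporData.HN.E5.Main
import Cfsg.Agent.Lib.InvChar.SporData.HN.E6.Main
import Cfsg.Agent.Lib.InvChar.SporData.HN.E8.Main
import Cfsg.Agent.Lib.InvChar.SporData.HN.E13.Main
import Cfsg.Agent.Lib.InvChar.SporData.HN.E14.Main
import Cfsg.Agent.Lib.InvChar.SporData.HN.E15.Main
import Cfsg.Agent.Lib.InvChar.SporData.HN.E18.Main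
import Cfsg.Agent.Lib.InvChar.SporData.HN.E21.Main
import Cfsg.Agent.Lib.InvChar.SporData.HN.E26.Main
import Cfsg.Agent.Lib.InvChar.SporData.HN.E27.Main
import Cfsg.Agent.Lib.InvChar.SporData.HN.E29.Main
import Cfsg.Agent.Lib.InvChar.SporData.HN.E34.Main
import Cfsg.Agent.Lib.InvChar.SporData.HN.E45.Main
import Cfsg.Agent.Lib.InvChar.SporData.HN.E46.Main
import Cfsg.Agent.Lib.InvChar.SporData.HN.E47.Main
import Cfsg.Agent.Lib.InvChar.SporData.HN.E50.Main
import Cfsg.Agent.Lib.InvChar.SporData.HN.E52.Main
import Cfsg.Agent.Lib.InvChar.SporData.HN.E55.Main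
import Cfsg.Agent.Lib.InvChar.SporData.HN.E82.Main
import Cfsg.Agent.Lib.InvChar.SporData.HN.E92.Main
import Cfsg.Agent.Lib.InvChar.SporData.HN.E99.Main
import Cfsg.Agent.Lib.InvChar.SporData.HN.G40.Main
import Cfsg.Agent.Lib.InvChar.SporData.HN.G41.Main
import Cfsg.Agent.Lib.InvChar.SporHNWords

/-! The certified words. -/

set_option autoImplicit false
set_option maxRecDepth 100000

namespace CfsgLib.InvChar.SporHN

open CfsgLib.InvChar.Coset

theorem certK_mem : ∀ k ∈ certK, wprod gen (edgeWord k) ∈ hnSub := by
  intro k hk
  simp only [certK, List.mem_cons, List.not_mem_nil, or_false] at hk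
  rcases hk with rfl | rfl | rfl | rfl | rfl | rfl | rfl | rfl | rfl | rfl | rfl | rfl | rfl | rfl | rfl | rfl | rfl | rfl | rfl | rfl | rfl | rfl | rfl | rfl | rfl | rfl | rfl | rfl | rfl | rfl
  · exact mem_of_triv 0 (by decide +kernel)
  · exact mem_of_cert 1 E1.cert E1.goal (by decide +kernel) (by decide +kernel) (by decide +kernel) (by decide +kernel) (E1.mem gen hnSub)
  · exact mem_of_cert 2 E2.cert E2.goal (by decide +kernel) (by decide +kernel) (by decide +kernel) (by decide +kernel) (E2.mem gen hnSub)
  · exact mem_of_cert 3 E3.cert E3.goal (by decide +kernel) (by decide +kernel) (by decide +kernel) (by decide +kernel) (E3.mem gen hnSub)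
  · exact mem_of_cert 4 E4.cert E4.goal (by decide +kernel) (by decide +kernel) (by decide +kernel) (by decide +kernel) (E4.mem gen hnSub)
  · exact mem_of_cert 5 E5.cert E5.goal (by decide +kernel) (by decide +kernel) (by decide +kernel) (by decide +kernel) (E5.mem gen hnSub)
  · exact mem_of_cert 6 E6.cert E6.goal (by decide +kernel) (by decide +kernel) (by decide +kernel) (by decide +kernel) (E6.mem gen hnSub)
  · exact mem_of_triv 7 (by decide +kernel)
  · exact mem_of_cert 8 E8.cert E8.goal (by decide +kernel) (by decide +kernel) (by decide +kernel) (by decide +kernel) (E8.mem gen hnSub)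
  · exact mem_of_triv 10 (by decide +kernel)
  · exact mem_of_triv 11 (by decide +kernel)
  · exact mem_of_triv 12 (by decide +kernel)
  · exact mem_of_cert 13 E13.cert E13.goal (by decide +kernel) (by decide +kernel) (by decide +kernel) (by decide +kernel) (E13.mem gen hnSub)
  · exact mem_of_cert 14 E14.cert E14.goal (by decide +kernel) (by decide +kernel) (by decide +kernel) (by decide +kernel) (E14.mem gen hnSub)
  · exact mem_of_cert 15 E15.cert E15.goal (by decide +kernel) (by decide +kernel) (by decide +kernel) (by decide +kernel) (E15.mem gen hnSub)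
  · exact mem_of_cert 18 E18.cert E18.goal (by decide +kernel) (by decide +kernel) (by decide +kernel) (by decide +kernel) (E18.mem gen hnSub)
  · exact mem_of_cert 21 E21.cert E21.goal (by decide +kernel) (by decide +kernel) (by decide +kernel) (by decide +kernel) (E21.mem gen hnSub)
  · exact mem_of_cert 26 E26.cert E26.goal (by decide +kernel) (by decide +kernel) (by decide +kernel) (by decide +kernel) (E26.mem gen hnSub)
  · exact mem_of_cert 27 E27.cert E27.goal (by decide +kernel) (by decide +kernel) (by decide +kernel) (by decide +kernel) (E27.mem gen hnSub)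
  · exact mem_of_cert 29 E29.cert E29.goal (by decide +kernel) (by decide +kernel) (by decide +kernel) (by decide +kernel) (E29.mem gen hnSub)
  · exact mem_of_cert 34 E34.cert E34.goal (by decide +kernel) (by decide +kernel) (by decide +kernel) (by decide +kernel) (E34.mem gen hnSub)
  · exact mem_of_cert 45 E45.cert E45.goal (by decide +kernel) (by decide +kernel) (by decide +kernel) (by decide +kernel) (E45.mem gen hnSub)
  · exact mem_of_cert 46 E46.cert E46.goal (by decide +kernel) (by decide +kernel) (by decide +kernel) (by decide +kernel) (E46.mem gen hnSub)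
  · exact mem_of_cert 47 E47.cert E47.goal (by decide +kernel) (by decide +kernel) (by decide +kernel) (by decide +kernel) (E47.mem gen hnSub)
  · exact mem_of_cert 50 E50.cert E50.goal (by decide +kernel) (by decide +kernel) (by decide +kernel) (by decide +kernel) (E50.mem gen hnSub)
  · exact mem_of_cert 52 E52.cert E52.goal (by decide +kernel) (by decide +kernel) (by decide +kernel) (by decide +kernel) (E52.mem gen hnSub)
  · exact mem_of_cert 55 E55.cert E55.goal (by decide +kernel) (by decide +kernel) (by decide +kernel) (by decide +kernel) (E55.mem gen hnSub)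
  · exact mem_of_cert 82 E82.cert E82.goal (by decide +kernel) (by decide +kernel) (by decide +kernel) (by decide +kernel) (E82.mem gen hnSub)
  · exact mem_of_cert 92 E92.cert E92.goal (by decide +kernel) (by decide +kernel) (by decide +kernel) (by decide +kernel) (E92.mem gen hnSub)
  · exact mem_of_cert 99 E99.cert E99.goal (by decide +kernel) (by decide +kernel) (by decide +kernel) (by decide +kernel) (E99.mem gen hnSub)

theorem certG_mem : ∀ q ∈ certG, wprod gen (stabWord q) ∈ hnSub := by
  intro q hq
  simp only [certG, List.mem_cons, List.not_mem_nil, or_false] at hq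
  rcases hq with rfl | rfl
  · exact stab_of_cert _ G40.cert G40.goal (by decide +kernel) (by decide +kernel) (by decide +kernel) (by decide +kernel) (G40.mem gen hnSub)
  · exact stab_of_cert _ G41.cert G41.goal (by decide +kernel) (by decide +kernel) (by decide +kernel) (by decide +kernel) (G41.mem gen hnSub)

end CfsgLib.InvChar.SporHN
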