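import Cfsg.Agent.Lib.InvChar.SporData.HN.K1.Data
import Cfsg.Agent.Lib.InvChar.SporData.HN.K2.Data
import Cfsg.Agent.Lib.InvChar.SporData.HN.K3.Data
import Cfsg.Agent.Lib.InvChar.SporData.HN.K4.Data
import Cfsg.Agent.Lib.InvChar.SporData.HN.K5.Data
import Cfsg.Agent.Lib.InvChar.SporData.HN.K6.Data
import Cfsg.Agent.Lib.InvChar.SporData.HN.K7.Data
import Cfsg.Agent.Lib.InvChar.SporData.HN.K8.Data

/-! The eight listings. -/

set_option autoImplicit false
set_option maxRecDepth 100000

namespace CfsgLib.InvChar.SporHN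

open CfsgLib.InvChar.Coset

/-- by orbit -/
noncomputable def kLists : List Listing := [kList1, kList1, kList2, kList3, kList4, kList5, kList6, kList7, kList8]

end CfsgLib.InvChar.SporHN
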