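import Cfsg.Agent.Lib.InvChar.SporHNTrace

/-! Words and traces for the normal subgroups. -/

set_option autoImplicit false
set_option maxRecDepth 100000

namespace CfsgLib.InvChar.SporHN

open CfsgLib.InvChar.Coset

/-- a word of order 19 -/
def nineteenW : List ℕ := [3, 5, 4, 2, 1, 3]
/-- z as a product of conjugates of the word and its inverse -/
def zTerms : List (Bool × List ℕ) := [(true, [5, 4, 2]), (false, [2, 0]), (true, [4, 6, 1]), (false, [6]), (true, [6, 6]), (false, [6]), (false, [2, 2]), (true, [2])]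
/-- points whose stabilisers meet trivially -/
def fixStarts : List (ℕ × List ℕ) := [(0, []), (1, []), (1, [4, 2, 4, 2, 4]), (1, [4, 2, 2, 0, 2, 4, 2]), (1, [4, 2, 2, 1, 4, 3])]
/-- hints -/
def nineteenTr : List (List (ℕ × List ℕ × ℕ) × ℕ) := [([(0, [], 0), (7, [2, 1, 2, 0], 16048), (26, [2, 2, 2], 56597), (9, [1, 2, 0, 2, 1, 3, 0, 2, 1, 2, 0, 2], 15768), (25, [1, 2, 0, 3, 1, 3, 0, 2, 2, 1, 2, 0, 2], 1291), (57, [1, 2, 0, 2, 1, 3, 0, 2, 1, 2, 0, 2, 1, 2, 0, 1, 2, 0], 149), (88, [1, 3, 0, 3, 3, 1, 2, 0, 3, 1, 3, 0, 1, 3, 0, 3, 1, 2, 0, 2], 492), (91, [1, 2, 0, 2, 2, 1, 3, 0, 2, 2, 1, 3, 0, 3, 3, 1, 2, 0, 3, 1, 3, 0, 1, 3, 0], 287), (92, [2, 1, 3, 0, 2, 1, 2, 0, 2, 2, 1, 2, 0, 2], 608), (70, [2, 1, 3, 0, 3,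 3, 1, 3, 0, 2, 2, 1, 2, 0, 2], 111), (55, [2, 1, 2, 0, 3, 3, 1, 3, 0, 1, 3, 0, 2, 2, 2, 1, 2, 0, 3], 90), (95, [2, 2, 2, 1, 3, 0, 2, 1, 2, 0, 2, 2, 1, 3, 0, 3, 1, 3, 0, 1, 3, 0, 2], 95), (88, [2, 1, 3, 0, 1, 3, 0, 2, 2, 1, 2, 0, 1, 2, 0, 2, 1, 3, 0, 1, 3, 0, 2], 268), (84, [1, 2, 0, 3, 3, 1, 2, 0, 2, 2, 2, 1, 3, 0], 122), (58, [1, 2, 0, 2, 1, 3, 0, 2, 1, 2, 0, 1, 2, 0, 3, 3, 1, 2, 0, 3, 3], 100), (17, [2, 2, 1, 3, 0, 3, 1, 2, 0, 1, 2, 0], 4014), (7, [2, 2, 1, 3, 0], 6157), (26, [], 71519), (2, [], 4506)], 0), ([(1, [], 25770), (5, [2, 1, 2, 0], 972), (9, [1, 2, 0, 1, 2, 0, 2, 2, 1, 2, 0], 27340), (22, [1, 2, 0, 1, 2, 0, 1, 2, 0, 2, 1, 2, 0, 2], 2382), (42, [2, 1, 2, 0, 1, 2, 0, 2, 1, 3, 0, 2, 2], 1065), (88,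 [2, 1, 3, 0, 1, 3, 0, 2, 2, 1, 2, 0, 3, 3, 1, 3, 0, 2, 1, 2, 0, 2], 362), (86, [2, 1, 2, 0, 1, 2, 0, 1, 2, 0, 3, 1, 3, 0, 3, 3, 1, 2, 0, 2, 2], 220), (65, [2, 1, 3, 0, 3, 1, 3, 0, 2, 1, 2, 0, 2, 1, 3, 0, 3, 1, 2, 0], 38), (88, [3, 1, 2, 0, 1, 2, 0, 2, 1, 2, 0, 2, 1, 3, 0, 1, 3, 0, 3], 104), (91, [3, 1, 3, 0, 3, 1, 2, 0, 2, 2, 2, 1, 2, 0, 1, 2, 0, 1, 2, 0, 3], 343), (92, [2, 2, 1, 2, 0, 3, 1, 3, 0, 3, 1, 2, 0, 1, 2, 0, 2, 1, 3, 0, 3], 608), (72, [3, 3, 1, 2, 0, 1, 2, 0, 2, 1, 2, 0, 3, 1, 3, 0, 2, 2, 1, 3, 0], 151), (59, [1, 2, 0, 3, 3, 1, 2, 0, 2, 1, 3, 0, 3, 1, 3, 0, 1, 3, 0, 3], 226), (47, [1, 2, 0, 1, 2, 0, 2, 1, 3, 0, 3, 1, 2, 0, 2, 1, 2, 0, 1, 2, 0], 233), (25, [1, 3, 0, 3, 1, 3, 0, 2, 1, 2, 0, 1, 2,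 0, 2, 1, 2, 0, 1, 2, 0, 2, 1, 3, 0], 3812), (47, [2, 1, 3, 0, 2, 2, 1, 2, 0, 3, 3, 1, 2, 0], 152), (14, [2, 2, 1, 2, 0, 3], 2942), (9, [2, 2, 2, 1, 2, 0, 2, 1, 3, 0, 3, 1, 3, 0, 2], 121377), (14, [], 932)], 208), ([(11, [3], 0), (87, [3, 1, 3, 0], 139), (34, [2, 1, 2, 0, 2, 2, 2, 1, 2, 0, 3], 238), (24, [1, 2, 0, 1, 2, 0, 1, 2, 0, 3, 3, 1, 2, 0, 1, 2, 0], 1998), (91, [1, 2, 0, 2, 1, 2, 0, 2, 2, 2, 1, 3, 0, 2, 1, 2, 0, 2, 2], 262), (92, [2, 2, 1, 3, 0, 1, 3, 0, 2, 2, 2, 1, 2, 0, 2], 628), (74, [2, 2, 1, 2, 0, 2, 1, 3, 0, 3, 1, 2, 0, 1, 2, 0, 1, 2, 0, 2, 1, 3, 0, 1, 3, 0, 3], 68), (75, [2, 2, 1, 3, 0, 2, 2, 1, 2, 0, 3, 1, 3, 0, 2, 2, 2, 1, 3, 0], 22), (74, [2, 1, 2, 0, 2, 2, 1, 3, 0, 3, 1, 2, 0, 2, 1, 3, 0],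 216), (55, [1, 3, 0, 2, 1, 2, 0, 2, 1, 3, 0, 3, 1, 3, 0, 1, 3, 0, 2, 1, 2, 0, 2, 1, 3, 0], 134), (95, [1, 3, 0, 1, 3, 0, 3, 3, 1, 2, 0, 3, 1, 3, 0, 1, 3, 0, 2, 1, 2, 0], 628), (83, [1, 2, 0, 1, 2, 0, 2, 1, 2, 0, 3, 1, 3, 0, 2, 2, 2, 1, 3, 0], 316), (88, [2, 2, 1, 3, 0, 1, 3, 0, 2, 1, 2, 0, 1, 2, 0, 3, 3, 1, 2, 0], 373), (90, [1, 3, 0, 3, 3, 1, 3, 0, 3, 1, 2, 0, 3, 3, 1, 3, 0], 496), (75, [3, 1, 3, 0, 2, 2, 1, 2, 0, 1, 2, 0, 3, 3, 1, 2, 0, 1, 2, 0], 179), (54, [2, 2, 1, 2, 0, 3, 3, 1, 2, 0, 1, 2, 0, 2, 1, 3, 0, 1, 3, 0, 3, 1, 2, 0, 2], 116), (87, [1, 2, 0, 2, 1, 2, 0, 1, 2, 0, 2, 1, 3, 0, 3, 1, 3, 0, 1, 3, 0, 3], 123), (43, [1, 3, 0, 2, 1, 2, 0, 2, 1, 3, 0, 3, 1, 2, 0, 1, 2, 0, 2, 1, 3, 0], 1246), (31, [1,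 2, 0, 2, 1, 3, 0, 3, 1, 3, 0, 1, 3, 0, 3], 316)], 73727), ([(10, [3, 1, 2, 0, 3, 1, 3, 0, 1, 3, 0, 2, 1, 2, 0], 19215), (38, [1, 3, 0, 2, 2, 2, 1, 2, 0, 1, 2, 0, 2], 786), (57, [2, 1, 3, 0, 1, 3, 0, 3, 1, 3, 0, 2, 1, 2, 0, 1, 2, 0, 3, 1, 3, 0], 178), (89, [1, 3, 0, 1, 3, 0, 2, 2, 2, 1, 3, 0, 3, 3, 1, 3, 0], 288), (70, [1, 2, 0, 1, 2, 0, 1, 2, 0, 2, 1, 2, 0, 3, 3, 1, 3, 0, 3, 1, 2, 0, 1, 2, 0], 163), (75, [2, 1, 3, 0, 3, 1, 2, 0, 2, 1, 2, 0, 1, 2, 0, 3, 3, 1, 2, 0], 34), (54, [2, 1, 3, 0, 1, 3, 0, 3, 3, 1, 3, 0, 3, 1, 2, 0, 3, 3], 105), (88, [2, 1, 3, 0, 3, 3, 1, 3, 0, 1, 3, 0, 3, 1, 2, 0, 1, 2, 0, 3, 1, 3, 0], 469), (90, [1, 2, 0, 1, 2, 0, 3, 3, 1, 3, 0, 2, 1, 2, 0, 3, 1, 3, 0, 3, 1, 2, 0, 2, 2], 432), (74,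 [2, 2, 1, 2, 0, 2, 1, 2, 0, 1, 2, 0, 2, 1, 3, 0, 3, 1, 2, 0, 2, 1, 2, 0], 113), (54, [1, 2, 0, 1, 2, 0, 1, 2, 0, 2, 1, 2, 0, 2, 1, 3, 0, 3, 1, 2, 0, 2, 1, 3, 0], 70), (88, [1, 3, 0, 1, 3, 0, 2, 2, 1, 2, 0, 3, 1, 3, 0, 2, 1, 2, 0, 2, 1, 3, 0, 3], 287), (90, [1, 2, 0, 2, 2, 1, 3, 0, 3, 3, 1, 3, 0, 2, 1, 2, 0, 2, 1, 3, 0, 3, 1, 3, 0], 286), (75, [1, 2, 0, 2, 1, 3, 0, 1, 3, 0, 3, 1, 2, 0, 1, 2, 0, 2, 1, 3, 0, 1, 3, 0], 79), (59, [2, 2, 2, 1, 2, 0, 1, 2, 0, 2, 1, 3, 0, 3, 1, 3, 0, 2, 1, 2, 0, 1, 2, 0], 135), (67, [1, 2, 0, 3, 1, 3, 0, 3, 1, 2, 0, 2, 1, 3, 0, 1, 3, 0, 3, 1, 3, 0, 2], 205), (43, [2, 1, 3, 0, 1, 3, 0, 2, 1, 2, 0, 1, 2, 0, 2, 2, 1, 3, 0, 2], 825), (42, [2, 2, 2, 1, 2, 0, 2, 1, 3, 0, 3, 3, 1, 3, 0],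 365), (77, [1, 2, 0, 2, 1, 3, 0, 1, 3, 0, 2], 375)], 42414), ([(10, [2, 1, 3, 0, 3], 6342), (37, [1, 3, 0, 2, 1, 2, 0, 2, 1, 2, 0, 1, 2, 0, 1, 2, 0], 428), (57, [1, 2, 0, 1, 2, 0, 1, 2, 0, 2, 1, 2, 0, 3, 1, 3, 0, 3, 3], 210), (89, [1, 2, 0, 2, 1, 3, 0, 3, 3, 1, 2, 0, 1, 2, 0, 3, 1, 3, 0, 1, 3, 0, 3], 460), (73, [1, 2, 0, 1, 2, 0, 1, 2, 0, 3, 3, 1, 3, 0, 2, 1, 2, 0, 2, 1, 3, 0, 3, 3], 151), (73, [3, 1, 3, 0, 2, 1, 2, 0, 2, 2, 1, 3, 0], 145), (75, [2, 2, 2, 1, 2, 0, 2, 1, 2, 0, 3, 1, 3, 0, 3, 1, 2, 0, 2, 2, 1, 2, 0], 110), (64, [2, 1, 3, 0, 3, 1, 2, 0, 2, 2, 1, 2, 0, 2, 2, 2], 222), (66, [2, 2, 1, 2, 0, 2, 1, 2, 0, 3, 3, 1, 2, 0, 1, 2, 0, 2, 2], 212), (96, [2, 2, 1, 3, 0, 2, 1, 2, 0, 2, 2, 1, 2, 0, 3, 3, 1,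 2, 0, 1, 2, 0], 199), (96, [2, 1, 2, 0, 1, 2, 0, 2, 1, 3, 0, 3, 3, 1, 2, 0, 3, 1, 3, 0, 3], 138), (97, [2, 2, 1, 3, 0, 2, 2, 1, 2, 0, 2, 1, 3, 0, 2, 1, 2, 0, 3], 355), (67, [1, 3, 0, 2, 1, 2, 0, 2, 2, 1, 2, 0, 1, 2, 0, 1, 2, 0], 55), (43, [1, 3, 0, 1, 3, 0, 2, 2, 1, 2, 0, 1, 2, 0, 3], 428), (40, [2, 1, 3, 0, 2, 1, 2, 0, 3, 1, 3, 0, 1, 3, 0, 2, 1, 2, 0, 3, 1, 3, 0, 1, 3, 0], 995), (80, [1, 2, 0, 1, 2, 0, 2, 1, 3, 0, 1, 3, 0, 3, 3, 1, 3, 0, 3], 103), (21, [2, 2, 1, 2, 0, 1, 2, 0, 1, 2, 0, 2, 1, 2, 0], 4797), (42, [2, 2, 1, 3, 0, 2, 1, 2, 0, 2, 2, 1, 3, 0], 354), (77, [2, 1, 2, 0, 3, 3, 1, 3, 0], 256)], 109221)]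
/-- hints -/
def zTr : List (List (ℕ × List ℕ × ℕ) × ℕ) := [([(2, [], 0), (2, [], 25770), (0, [], 0), (0, [], 24400), (0, [], 0), (5, [3], 0), (14, [3], 17198), (12, [1, 3, 0], 2983), (1, [], 9979), (0, [], 8232), (0, [], 0), (1, [], 0), (4, [], 13988), (5, [1, 3, 0], 994), (12, [1, 3, 0], 0), (12, [1, 3, 0], 0), (1, [], 9979), (0, [], 8232), (2, [], 0), (2, [], 8232)], 0), ([(17, [1, 3, 0], 13988), (17, [1, 3, 0, 3], 0), (11, [2, 1, 2, 0, 3, 3, 1, 3, 0, 3], 61888), (11, [2, 1, 2, 0, 3, 3, 1, 3, 0, 3], 49), (11, [2, 2, 2, 1, 3, 0, 2, 2, 1, 2, 0, 3], 53460), (82, [1, 3, 0, 3, 1, 2, 0], 128), (10, [2, 1, 2, 0, 3, 1, 3, 0, 2, 1, 2, 0, 2, 2], 1245), (9, [2, 2, 1, 2, 0, 2, 1, 3, 0, 3, 1, 3, 0, 2, 1, 2, 0], 10583),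 (15, [3, 3, 1, 3, 0, 2, 1, 2, 0, 3, 3], 796), (8, [3, 3, 1, 3, 0, 2, 1, 2, 0, 3], 2983), (8, [3, 3, 1, 3, 0, 2, 1, 2, 0, 3], 0), (15, [3, 3, 1, 3, 0, 2, 1, 2, 0, 3], 0), (14, [3, 3, 1, 3, 0, 2, 1, 2, 0, 3, 3], 0), (31, [2, 2, 1, 2, 0, 2, 1, 3, 0, 3, 1, 3, 0, 2, 1, 2, 0], 4500), (22, [1, 2, 0, 2, 1, 3, 0, 3, 1, 2, 0, 2, 1, 2, 0, 1, 2, 0], 795), (22, [1, 2, 0, 2, 1, 3, 0, 3, 1, 2, 0, 2, 1, 2, 0, 1, 2, 0], 0), (16, [1, 3, 0, 2], 455), (9, [1, 3, 0, 2, 2], 2999), (14, [3], 994), (14, [], 2983)], 628), ([(12, [2], 24400), (12, [], 2983), (4, [], 4220), (4, [], 24400), (3, [], 1750), (6, [3], 0), (19, [1, 3, 0], 2252), (21, [2, 1, 2, 0, 2, 2, 2, 1, 2, 0, 2, 2, 1, 3, 0], 3686), (16, [1, 3, 0], 322), (9, [1, 3, 0,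 2], 2999), (9, [1, 3, 0, 2], 0), (16, [1, 3, 0, 2], 2985), (32, [1, 3, 0], 1337), (28, [1, 3, 0], 668), (36, [1, 3, 0], 0), (36, [1, 3, 0], 0), (13, [3], 50012), (6, [], 2983), (17, [2, 2, 2, 1, 2, 0, 2, 1, 3, 0, 3, 1, 2, 0], 111136), (17, [1, 2, 0, 1, 2, 0, 2, 1, 3, 0, 3, 1, 2, 0, 1, 2, 0], 3076)], 91323), ([(17, [2, 2, 2, 1, 3, 0, 3, 3], 28296), (17, [2, 2, 2, 1, 2, 0, 1, 2, 0, 1, 2, 0], 4874), (11, [2, 2, 1, 2, 0, 3], 65548), (11, [2, 2, 1, 2, 0, 3], 49), (11, [1, 2, 0, 2, 1, 3, 0, 1, 3, 0, 2], 17646), (80, [1, 2, 0, 2, 1, 3, 0, 1, 3, 0], 49), (58, [1, 2, 0, 2, 2, 1, 2, 0, 2, 2, 2, 1, 3, 0, 2], 4132), (63, [2, 2, 1, 3, 0, 3, 1, 2, 0], 95), (76, [1, 2, 0, 2, 2, 2, 1, 3, 0, 3], 379), (11, [1, 2, 0, 2, 2,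 2, 1, 3, 0], 49), (11, [1, 2, 0, 2, 2, 2, 1, 3, 0], 0), (76, [1, 2, 0, 2, 2, 2, 1, 3, 0], 0), (79, [1, 2, 0, 1, 2, 0, 3, 3, 1, 3, 0, 3], 49), (24, [2, 2, 1, 3, 0, 3, 1, 2, 0], 482), (80, [2, 2, 1, 2, 0, 2, 1, 3, 0, 3, 1, 2, 0, 1, 2, 0, 2, 1, 3, 0], 578), (80, [2, 2, 1, 2, 0, 2, 1, 3, 0, 3, 1, 2, 0, 1, 2, 0, 2, 1, 3, 0], 0), (30, [2, 2, 1, 3, 0, 1, 3, 0, 3, 3, 1, 2, 0, 1, 2, 0], 2429), (10, [1, 2, 0, 2, 1, 3, 0, 2, 1, 2, 0, 1, 2, 0, 3], 775), (77, [2, 2, 2, 1, 3, 0, 2, 1, 2, 0], 99445), (77, [1, 2, 0, 2, 2, 1, 2, 0, 3], 126)], 4060), ([(17, [2, 2, 1, 3, 0, 3, 1, 2, 0, 2, 1, 2, 0, 3], 18213), (17, [2, 1, 2, 0, 3, 1, 3, 0, 2, 1, 2, 0, 2, 2], 3450), (11, [3, 3, 1, 2, 0], 27199), (11, [3, 3, 1, 2, 0], 49), (11,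 [3, 1, 2, 0, 2], 117753), (80, [3, 1, 2, 0, 2, 1, 3, 0, 3, 1, 2, 0, 2, 2, 1, 3, 0, 1, 3, 0], 156), (58, [3, 1, 2, 0, 2, 1, 2, 0, 3, 3, 1, 2, 0, 3], 4267), (63, [1, 2, 0, 3, 3, 1, 2, 0, 2, 1, 3, 0, 2, 2, 2], 100), (76, [3, 1, 2, 0, 3, 3, 1, 3, 0, 2], 497), (11, [1, 3, 0, 3, 3, 1, 3, 0, 3, 3], 53), (11, [1, 3, 0, 3, 3, 1, 3, 0, 3, 3], 0), (76, [1, 3, 0, 3, 3, 1, 3, 0, 3, 3], 0), (79, [3, 1, 3, 0, 1, 3, 0, 2], 157), (24, [1, 2, 0, 3, 3, 1, 2, 0, 2, 1, 3, 0, 2, 2, 2], 482), (80, [2, 2, 1, 2, 0, 1, 2, 0, 2, 1, 2, 0, 2, 2, 1, 2, 0, 1, 2, 0], 2478), (80, [2, 2, 1, 2, 0, 1, 2, 0, 2, 1, 2, 0, 2, 2, 1, 2, 0, 1, 2, 0], 0), (30, [2, 1, 2, 0, 3, 3, 1, 3, 0, 3], 622), (10, [2, 1, 2, 0, 3, 3, 1, 3, 0], 786), (77, [1, 3,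 0, 3, 3], 90529), (77, [1, 3, 0, 3], 49)], 4220)]

end CfsgLib.InvChar.SporHN
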