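import Cfsg.Agent.Lib.InvChar.SporHNTrace

/-! z is conjugate to the square of x. -/

set_option autoImplicit false
set_option maxRecDepth 100000

namespace CfsgLib.InvChar.SporHN

open CfsgLib.InvChar.Coset

/-- the conjugating word -/
def zConjW : List ℕ := [0, 3, 0, 6, 1, 5, 1, 1, 6, 0, 5, 1, 2, 1, 4, 0, 3, 0, 6, 1, 5, 1, 1, 6, 0, 5, 1, 2, 1, 4, 0, 3, 0, 6, 1, 5]
/-- hints -/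
def zConjTr : List (List (ℕ × List ℕ × ℕ) × ℕ) := [([(2, [], 0), (4, [], 24400), (14, [1, 3, 0], 8232), (12, [3], 2983), (5, [3], 24400), (8, [1, 3, 0], 24400), (27, [1, 3, 0], 2300), (26, [3], 42686), (14, [3], 24400), (13, [1, 3, 0], 2983), (13, [1, 3, 0], 4769), (14, [3], 2983), (26, [3], 24400), (27, [1, 3, 0], 42686), (8, [1, 3, 0], 2300), (5, [3], 24400), (12, [3], 24400), (14, [1, 3, 0], 2983), (4, [], 25770), (2, [], 24400)], 0), ([(0, [], 0), (0, [], 0), (12, [1, 3, 0], 628), (15, [3], 2983), (8, [3], 2983), (6, [1, 3, 0], 24400), (15, [1, 3, 0], 2300), (13, [3], 2983), (13, [3], 48925), (15, [1, 3, 0], 2983), (6, [1, 3, 0], 2300), (8, [3], 24400), (15, [3], 2983), (12, [1, 3, 0], 0), (0, [], 13988), (0, [], 0), (3, [], 24400),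 (2, [], 0), (2, [], 0), (3, [], 24400)], 24400), ([(77, [], 0), (79, [2, 1, 2, 0, 1, 2, 0, 2, 1, 3, 0, 3], 248), (85, [3, 1, 3, 0, 3, 1, 2, 0, 2, 2, 1, 3, 0, 1, 3, 0, 3, 1, 2, 0, 1, 2, 0], 73), (80, [3, 1, 3, 0, 2, 2, 2, 1, 2, 0, 3, 1, 3, 0, 3, 3, 1, 3, 0], 129), (80, [2, 2, 1, 2, 0, 2, 2, 2, 1, 2, 0, 2], 3564), (85, [1, 2, 0, 1, 2, 0, 2, 1, 2, 0, 1, 2, 0, 1, 2, 0, 2, 1, 2, 0], 49), (40, [1, 2, 0, 2, 1, 2, 0, 3, 3, 1, 3, 0, 1, 3, 0, 2, 2, 1, 2, 0, 2], 201), (43, [2, 1, 3, 0, 3, 3, 1, 2, 0, 1, 2, 0, 2, 1, 3, 0, 1, 3, 0, 2, 1, 2, 0], 980), (87, [2, 1, 3, 0, 3, 3, 1, 2, 0, 1, 2, 0, 2, 1, 3, 0, 1, 3, 0, 2, 1, 2, 0], 256), (82, [2, 1, 2, 0, 2, 2, 1, 2, 0, 2, 1, 3, 0, 3, 1, 2, 0, 2], 234), (82, [2, 1, 2, 0, 2, 1, 3, 0, 3, 1, 2, 0, 2, 2,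 1, 2, 0, 3], 1337), (87, [2, 1, 3, 0, 2, 1, 2, 0, 2, 2, 1, 3, 0, 3, 1, 2, 0, 2], 241), (43, [2, 1, 3, 0, 2, 1, 2, 0, 2, 2, 1, 3, 0, 3, 1, 2, 0, 2], 256), (40, [1, 3, 0, 3, 3, 1, 2, 0, 1, 2, 0, 2, 1, 2, 0, 1, 2, 0, 3], 958), (85, [3, 1, 2, 0, 3, 1, 3, 0, 3, 1, 2, 0, 2, 2, 1, 2, 0, 2], 169), (80, [3, 1, 2, 0, 3, 3, 1, 3, 0, 2, 1, 2, 0, 1, 2, 0, 2, 1, 2, 0], 49), (80, [2, 1, 3, 0, 3, 1, 2, 0, 2, 1, 3, 0, 2, 2, 1, 3, 0, 3], 3444), (85, [1, 2, 0, 3, 1, 3, 0, 2, 2, 1, 3, 0, 2, 1, 2, 0, 3, 1, 3, 0], 49), (79, [], 42), (77, [1, 2, 0, 2, 2, 1, 2, 0, 3, 1, 3, 0], 230)], 41322), ([(31, [1, 2, 0, 2, 1, 3, 0, 2, 1, 2, 0, 2, 1, 3, 0], 14951), (32, [2, 2, 2, 1, 3, 0, 1, 3, 0, 2], 726), (87, [3, 1, 3, 0, 3, 3, 1, 3, 0, 3, 1, 2, 0, 2, 2, 1, 3, 0],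 1023), (83, [3, 3, 1, 2, 0, 3, 1, 3, 0, 2, 1, 2, 0, 2, 1, 3, 0], 459), (40, [3, 1, 2, 0, 3, 3, 1, 3, 0, 2, 1, 2, 0, 2, 1, 3, 0], 25), (42, [2, 1, 3, 0, 2, 2, 1, 2, 0, 2], 807), (63, [3, 3, 1, 3, 0, 1, 3, 0, 2, 1, 2, 0, 2, 1, 3, 0, 2, 2, 1, 2, 0], 458), (57, [1, 3, 0, 2, 1, 2, 0, 1, 2, 0, 2, 2, 1, 3, 0], 236), (85, [1, 3, 0, 1, 3, 0, 3, 3, 1, 2, 0, 2, 2, 1, 3, 0, 2, 1, 2, 0, 2], 253), (81, [1, 2, 0, 3, 3, 1, 2, 0, 1, 2, 0, 1, 2, 0, 2, 1, 3, 0, 1, 3, 0, 3], 57), (81, [3, 1, 3, 0, 1, 3, 0, 2, 1, 2, 0, 1, 2, 0, 3], 214), (85, [1, 2, 0, 2, 1, 2, 0, 1, 2, 0, 2, 1, 3, 0, 2, 2, 2], 177), (57, [3, 3, 1, 3, 0, 1, 3, 0, 2, 2, 1, 3, 0], 479), (63, [2, 1, 2, 0, 2, 2, 2, 1, 3, 0, 2, 1, 2, 0, 1, 2, 0], 216), (42, [1, 2, 0, 2, 1, 2, 0, 1, 2, 0, 2,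 1, 3, 0, 3, 1, 2, 0], 266), (40, [2, 1, 2, 0, 1, 2, 0, 3, 1, 3, 0, 1, 3, 0, 2, 1, 2, 0, 1, 2, 0, 2], 805), (83, [1, 2, 0, 3, 1, 3, 0, 3, 1, 2, 0, 2, 2, 1, 2, 0, 2], 111), (87, [1, 3, 0, 2, 1, 2, 0, 1, 2, 0, 2, 1, 2, 0, 2, 1, 3, 0, 2, 2, 1, 2, 0], 301), (32, [2, 2, 1, 3, 0, 3, 1, 3, 0, 2], 899), (31, [1, 2, 0, 2, 1, 3, 0, 3, 3, 1, 2, 0], 948)], 21319), ([(31, [2, 1, 3, 0], 94645), (32, [2, 2, 1, 2, 0, 2, 2, 1, 2, 0, 3, 3], 761), (46, [1, 3, 0, 1, 3, 0, 2], 416), (49, [2, 1, 3, 0], 124), (34, [2, 1, 3, 0], 2983), (37, [2, 1, 2, 0, 2, 1, 3, 0, 2, 1, 2, 0, 3, 3, 1, 3, 0], 724), (37, [2, 1, 2, 0, 2, 1, 3, 0, 2, 1, 2, 0, 3, 3, 1, 3, 0], 14), (34, [2, 1, 3, 0], 922), (49, [2, 1, 3, 0], 2983), (46, [1, 3, 0, 1, 3, 0, 2], 134), (32, [2, 2,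 1, 2, 0, 2, 2, 1, 2, 0, 3, 3], 468), (31, [2, 1, 3, 0], 819), (31, [2, 2, 2, 1, 3, 0, 2, 1, 2, 0, 3, 1, 3, 0], 74821), (32, [3, 1, 2, 0, 1, 2, 0, 3], 843), (39, [1, 3, 0, 1, 3, 0, 2], 892), (36, [2, 1, 3, 0], 432), (36, [2, 1, 3, 0], 48925), (39, [1, 3, 0, 1, 3, 0, 2], 608), (32, [3, 1, 2, 0, 1, 2, 0, 3], 875), (31, [2, 2, 2, 1, 3, 0, 2, 1, 2, 0, 3, 1, 3, 0], 843)], 96871)]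

end CfsgLib.InvChar.SporHN
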